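import Cfsg.Agent.Lib.Compute.Chain

/-!
# Chain checks in pieces

`chainCheck` in several declarations, one for each generator of a level, to bound the memory of the
kernel computation.
-/

set_option autoImplicit false

namespace Cfsg.Agent.Lib.Compute

/-- Everything at the top level except the Schreier generators. -/
noncomputable def topCheck (O : Ops) (S : List (ℕ × ℕ)) : List Lvl → Bool
  | [] => false
  | l :: _ =>
    increasing (l.orb.toList.map Ent.x) &&
    (l.orb.toList.all fun e => entCheck O S l.b l.orb e) &&
    (match l.orb.find l.b with
      | none => false
      | some e => Nat.beq e.u O.one) &&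
    nextCheck O S l.b l.orb l.T l.W

/-- The Schreier generators of generator `i` at the top level. -/
noncomputable def schreierAt (O : Ops) (S : List (ℕ × ℕ)) (i : ℕ) : List Lvl → Bool
  | [] => false
  | l :: ls => l.orb.toList.all fun e => schreierCheck O l.orb ls (genAt S O i) e

/-- The Schreier generators of generator `i` at the first `k` entries of the top level. -/
noncomputable def schreierTake (O : Ops) (S : List (ℕ × ℕ)) (i k : ℕ) : List Lvl → Bool
  | [] => false
  | l :: ls => (l.orb.toList.take k).all fun e => schreierCheck O l.orb ls (genAt S O i) e

/-- The Schreier generators of generator `i` after the first `k` entries of the top level. -/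
noncomputable def schreierDrop (O : Ops) (S : List (ℕ × ℕ)) (i k : ℕ) : List Lvl → Bool
  | [] => false
  | l :: ls => (l.orb.toList.drop k).all fun e => schreierCheck O l.orb ls (genAt S O i) e

theorem schreierAt_of_halves {O : Ops} {S : List (ℕ × ℕ)} {L : List Lvl} {i k : ℕ}
    (h1 : schreierTake O S i k L = true) (h2 : schreierDrop O S i k L = true) : schreierAt O S i L = true := by
  cases L with
  | nil => simp [schreierTake] at h1
  | cons l ls =>
    simp only [schreierAt, schreierTake, schreierDrop] at h1 h2 ⊢
    rw [← List.take_append_drop k l.orb.toList, List.all_append, h1, h2]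
    rfl

/-- The generators of the next level. -/
def nextGens : List Lvl → List (ℕ × ℕ)
  | [] => []
  | l :: _ => l.T

/-- The pieces give the check. -/
theorem chainCheck_of_pieces {O : Ops} {S : List (ℕ × ℕ)} {L : List Lvl}
    (h1 : topCheck O S L = true) (h2 : ∀ i < S.length, schreierAt O S i L = true)
    (h3 : chainCheck O (nextGens L) L.tail = true) : chainCheck O S L = true := by
  cases L with
  | nil => simp [topCheck] at h1
  | cons l ls =>
    simp only [topCheck, Bool.and_eq_true] at h1
    simp only [chainCheck, Bool.and_eq_true]
    refine ⟨⟨h1, List.all_eq_true.2 fun s hs => ?_⟩, h3⟩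
    obtain ⟨i, hi, rfl⟩ := List.getElem_of_mem hs
    have h := h2 i hi
    simp only [schreierAt, genAt, List.getD_eq_getElem _ _ hi] at h
    exact h

end Cfsg.Agent.Lib.Compute
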