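import Cfsg.Agent.Lib.Compute.Perm

/-!
# Pruned enumeration of transporters

All elements `g` of a certified group with `g * x = y * g`. While descending the stabiliser chain
the images of the base points passed so far are known, so a branch dies as soon as two of them
contradict this equation.
-/

set_option autoImplicit false

namespace Cfsg.Agent.Lib.Compute

/-- The partial element `v` respects the pair `(x, y)` on the decided points. -/
noncomputable def respects (O : Ops) (x y v : ℕ) (dec : List ℕ) : Bool :=
  dec.all fun p => forceNat (O.act x p) fun q =>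
    !(dec.any fun r => Nat.beq r q) || Nat.beq (O.act y (O.act v p)) (O.act v q)

/-- Codes of the candidates for `g * x = y * g`. -/
noncomputable def transList (O : Ops) (x y : ℕ) : List Lvl → ℕ → List ℕ → List ℕ
  | [], v, _ => if Nat.beq (O.mul v x) (O.mul y v) then [v] else []
  | l :: ls, v, dec =>
    (l.orb.toList.map fun e => forceNat (O.mul v e.v) fun v' =>
      if respects O x y v' (l.b :: dec) then transList O x y ls v' (l.b :: dec) else []).flatten

variable {G : Type*} [Group G] [Finite G] {O : Ops} (C : Coding G O)

/-- The enumeration is complete. -/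
theorem enc_mem_transList {x y g : G} (hg : g * x = y * g) :
    ∀ {L : List Lvl} {S : List (ℕ × ℕ)}, GensOK C S → chainCheck O S L = true →
      ∀ (v : G) (dec : List ℕ), v⁻¹ * g ∈ genGroup C S →
        (∀ p ∈ dec, ∀ k ∈ genGroup C S, O.act (C.enc k) p = p) →
        C.enc g ∈ transList O (C.enc x) (C.enc y) L (C.enc v) dec := by
  intro L
  induction L with
  | nil =>
    intro S hS h v dec hv _
    have hc := card_genGroup C hS h
    rw [chainSize, Subgroup.card_eq_one] at hc
    rw [hc, Subgroup.mem_bot, inv_mul_eq_one] at hv
    subst hv
    rw [transList, C.mul_enc, C.mul_enc, hg, if_pos (by simp)]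
    exact List.mem_singleton_self _
  | cons l ls ih =>
    intro S hS h v dec hv hdec
    obtain ⟨e, he, t, ht, -, hmem⟩ := exists_entry C hS h hv
    have hmem' : (v * t)⁻¹ * g ∈ genGroup C l.T := by simpa [mul_assoc] using hmem
    have hdec' : ∀ p ∈ l.b :: dec, ∀ k ∈ genGroup C l.T, O.act (C.enc k) p = p := by
      intro p hp k hk
      rcases List.mem_cons.1 hp with rfl | hp
      · exact act_next C hS h hk
      · exact hdec p hp k (genGroup_next_le C hS h hk)
    have hact : ∀ p ∈ l.b :: dec, O.act (C.enc (v * t)) p = O.act (C.enc g) p := by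
      intro p hp
      have h2 : O.act (C.enc g) p = O.act (C.enc (v * t)) (O.act (C.enc ((v * t)⁻¹ * g)) p) := by
        rw [← C.act_mul, mul_inv_cancel_left]
      rw [h2, hdec' p hp _ hmem']
    have hres : respects O (C.enc x) (C.enc y) (C.enc (v * t)) (l.b :: dec) = true := by
      refine List.all_eq_true.2 fun p hp => ?_
      rw [forceNat_eq]
      by_cases hq : O.act (C.enc x) p ∈ l.b :: dec
      · simp only [Bool.or_eq_true]
        refine Or.inr ?_
        rw [hact p hp, hact _ hq, ← C.act_mul, ← C.act_mul, hg]
        simp
      · simp only [Bool.or_eq_true, Bool.not_eq_true']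
        refine Or.inl (List.any_eq_false.2 fun r hr hb => hq ?_)
        rw [← Nat.eq_of_beq_eq_true hb]
        exact hr
    simp only [transList, List.mem_flatten, List.mem_map]
    refine ⟨_, ⟨e, he, rfl⟩, ?_⟩
    rw [forceNat_eq, ← ht, C.mul_enc, if_pos hres]
    exact ih (gensOK_next C hS h) (chainCheck_cons C hS h).2.2.2.2.2 (v * t) _ hmem' hdec'

/-- The centralizer and transporter sets are enumerated from the top of the chain. -/
theorem enc_mem_transList_top {x y g : G} {L : List Lvl} {S : List (ℕ × ℕ)} (hS : GensOK C S)
    (hL : chainCheck O S L = true) (hg : g * x = y * g) (hmem : g ∈ genGroup C S) :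
    C.enc g ∈ transList O (C.enc x) (C.enc y) L O.one [] := by
  rw [← C.one_enc]
  exact enc_mem_transList C hg hS hL 1 [] (by simpa using hmem) (by simp)

end Cfsg.Agent.Lib.Compute
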