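import Cfsg.Agent.Lib.Compute.WordTwins

/-!
# Outer automorphism group of order two from certificates with words

`x1` spans a Sylow `p`-subgroup of order `p`, `x2` normalises it, `x3` normalises `⟨x2⟩`. Up to an
inner automorphism an automorphism maps `x1` to a power, fixes `x2` and maps `x3` into a short list.
-/

set_option autoImplicit false

namespace Cfsg.Agent.Lib.Compute.WordAut

open Cfsg.Agent.Lib.Compute.Schur (prodT prodT_append prodT_cons prodT_replicate)
open Cfsg.Agent.Lib.Compute.WordSchur (KeySound wordX wordX_lt)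
open Cfsg.Agent.Lib.Compute.WordTwins

/-- The certificate. -/
structure OutCert where
  p : ℕ
  x1 : List ℕ
  x2 : List ℕ
  x3 : List ℕ
  /-- `x2 x1 = x1 ^ m x2` -/
  m : ℕ
  /-- `x3 x2 = x2 ^ l x3` -/
  l : ℕ
  lev1 : List WLev
  lev2 : List WLev
  /-- words in the triple giving the generators -/
  genW : List (List ℕ)
  /-- words in the triple with value one -/
  rels : List (List ℕ)
  /-- images of the triple under the outer automorphism -/
  s1 : List ℕ
  s2 : List ℕ
  s3 : List ℕ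
  /-- conjugators, with the flag telling whether the outer automorphism is involved -/
  conjs : List (List ℕ × Bool)
  /-- the candidates for the image of `x3` -/
  Z : List (List ℕ)
  /-- short words for the powers of `x1` -/
  pows : List (List ℕ)

/-- A word repeated. -/
def powW (u : List ℕ) (k : ℕ) : List ℕ := (List.replicate k u).flatten

/-- Conjugates of a word by the powers of `x1` include `v`. -/
noncomputable def inOrbitW (key : List ℕ → ℕ) (x1 v y : List ℕ) (p : ℕ) : Bool :=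
  (List.range p).any fun i => Nat.beq (key (powW x1 i ++ y)) (key (v ++ powW x1 i))

/-- An image triple is excluded or explained. -/
noncomputable def tripleOK (key : List ℕ → ℕ) (A : OutCert) (k : ℕ) (z : List ℕ) : Bool :=
  (A.rels.any fun r => !Nat.beq (key (wordX [A.pows.getD k [], A.x2, z] r)) (key [])) ||
  A.conjs.any fun q =>
    Nat.beq (key (q.1 ++ bif q.2 then A.s1 else A.x1)) (key (A.pows.getD k [] ++ q.1)) &&
    Nat.beq (key (q.1 ++ bif q.2 then A.s2 else A.x2)) (key (A.x2 ++ q.1)) &&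
    Nat.beq (key (q.1 ++ bif q.2 then A.s3 else A.x3)) (key (z ++ q.1))

/-- Letters are generators. -/
def wlt (nk : ℕ) (u : List ℕ) : Bool := u.all fun a => Nat.blt a nk

/-- Basic part of the check. -/
noncomputable def baseCheck (img : List ℕ → ℕ → ℕ) (key : List ℕ → ℕ) (nk n N : ℕ) (A : OutCert) :
    Bool :=
  wlt nk A.x1 && wlt nk A.x2 && wlt nk A.x3 && wlt nk A.s1 && wlt nk A.s2 && wlt nk A.s3 &&
  (A.conjs.all fun q => wlt nk q.1) &&
  Nat.beq (N % A.p) 0 && !Nat.beq (N / A.p % A.p) 0 &&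
  Nat.beq (key (powW A.x1 A.p)) (key []) && !Nat.beq (key A.x1) (key []) &&
  Nat.beq (key (A.x2 ++ A.x1)) (key (powW A.x1 A.m ++ A.x2)) &&
  Nat.beq (key (A.x3 ++ A.x2)) (key (powW A.x2 A.l ++ A.x3)) &&
  Nat.beq A.genW.length nk &&
  ((List.range A.p).all fun k => wlt nk (A.pows.getD k []) &&
    Nat.beq (key (A.pows.getD k [])) (key (powW A.x1 k))) &&
  ((List.range nk).all fun a =>
    Nat.beq (key (wordX [A.x1, A.x2, A.x3] (A.genW.getD a []))) (key [a])) &&
  (A.rels.all fun r => Nat.beq (key (wordX [A.x1, A.x2, A.x3] r)) (key [])) &&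
  levelsOK img nk n A.lev1 [] && Nat.beq (levelsSize A.lev1) N && linksOK img A.x1 A.lev1 &&
  levelsOK img nk n A.lev2 [] && Nat.beq (levelsSize A.lev2) N && linksOK img A.x2 A.lev2

/-- The normalised images of `x2`. -/
noncomputable def secondCheck (img : List ℕ → ℕ → ℕ) (key : List ℕ → ℕ) (A : OutCert) : Bool :=
  (twinsW img key A.lev1 A.x1 (powW A.x1 A.m)).all fun y => inOrbitW key A.x1 A.x2 y A.p

/-- The list of candidates for the image of `x3`. -/
noncomputable def thirdList (img : List ℕ → ℕ → ℕ) (key : List ℕ → ℕ) (A : OutCert) : List (List ℕ) :=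
  twinsW img key A.lev2 A.x2 (powW A.x2 A.l)

/-- Equality of lists of words. -/
def wordsEq : List (List ℕ) → List (List ℕ) → Bool
  | [], [] => true
  | u :: a, v :: b => Schur.natListEq u v && wordsEq a b
  | _, _ => false

theorem wordsEq_eq : ∀ {a b : List (List ℕ)}, wordsEq a b = true → a = b
  | [], [], _ => rfl
  | [], _ :: _, h => by simp [wordsEq] at h
  | _ :: _, [], h => by simp [wordsEq] at h
  | u :: a, v :: b, h => by
    simp only [wordsEq, Bool.and_eq_true] at h
    rw [Schur.natListEq_eq h.1, wordsEq_eq h.2]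

/-- The image triples with first entry the power `k`. -/
noncomputable def powerCheck (key : List ℕ → ℕ) (A : OutCert) (k : ℕ) : Bool :=
  A.Z.all (tripleOK key A k)

/-- The outer automorphism is not inner. -/
noncomputable def outerCheckW (img : List ℕ → ℕ → ℕ) (key : List ℕ → ℕ) (A : OutCert) : Bool :=
  (twinsW img key A.lev1 A.x1 A.s1).all fun c =>
    !(Nat.beq (key (c ++ A.x2)) (key (A.s2 ++ c)) && Nat.beq (key (c ++ A.x3)) (key (A.s3 ++ c)))

section Sound

variable {G : Type*} [Group G] {f : ℕ → G} {nk n : ℕ} {img : List ℕ → ℕ → ℕ} {key : List ℕ → ℕ}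

theorem prodT_powW (u : List ℕ) : ∀ k : ℕ, prodT f (powW u k) = prodT f u ^ k
  | 0 => by simp [powW, prodT]
  | k + 1 => by
    rw [powW, List.replicate_succ, List.flatten_cons, prodT_append, pow_succ', ← prodT_powW u k,
      powW]

theorem prodT_wordX (X : List (List ℕ)) : ∀ r : List ℕ,
    prodT f (wordX X r) = prodT (fun i => prodT f (X.getD i [])) r
  | [] => by simp [wordX, prodT]
  | i :: r => by
    rw [prodT_cons, ← prodT_wordX X r]
    simp only [wordX, List.flatMap_cons, prodT_append]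

theorem powW_lt {u : List ℕ} (h : ∀ a ∈ u, a < nk) (k : ℕ) : ∀ a ∈ powW u k, a < nk := by
  intro a ha
  simp only [powW, List.mem_flatten, List.mem_replicate] at ha
  obtain ⟨v, ⟨-, rfl⟩, ha⟩ := ha
  exact h a ha

theorem append_lt {u v : List ℕ} (hu : ∀ a ∈ u, a < nk) (hv : ∀ a ∈ v, a < nk) :
    ∀ a ∈ u ++ v, a < nk := by
  intro a ha
  rcases List.mem_append.1 ha with ha | ha
  · exact hu a ha
  · exact hv a ha

theorem prodT_triple (φ : G →* G) (X : List (List ℕ)) (Y : List (List ℕ))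
    (h : ∀ i, φ (prodT f (X.getD i [])) = prodT f (Y.getD i [])) (r : List ℕ) :
    φ (prodT f (wordX X r)) = prodT f (wordX Y r) := by
  rw [prodT_wordX, prodT_wordX, Schur.map_prodT, funext h]

variable [Finite G]

/-- Outer automorphism group of order two. -/
theorem card_out_eq_two (W : WAct G f nk n img) (hk : KeySound f nk key)
    (hkc : ∀ u v, (∀ a ∈ u, a < nk) → (∀ a ∈ v, a < nk) → prodT f u = prodT f v → key u = key v)
    (hgen : Subgroup.closure {x | ∃ a, a < nk ∧ f a = x} = ⊤)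
    {N : ℕ} (hN : Nat.card G = N) {A : OutCert} (hp : A.p.Prime)
    (h0 : baseCheck img key nk n N A = true) (h2 : secondCheck img key A = true)
    (hZ : wordsEq (thirdList img key A) A.Z = true)
    (h3 : ∀ k, 0 < k → k < A.p → powerCheck key A k = true) (h4 : outerCheckW img key A = true)
    (τ : MulAut G) (hτ1 : τ (prodT f A.x1) = prodT f A.s1) (hτ2 : τ (prodT f A.x2) = prodT f A.s2)
    (hτ3 : τ (prodT f A.x3) = prodT f A.s3) : Nat.card (Cfsg.Out G) = 2 := by
  haveI := Fact.mk hp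
  simp only [baseCheck, wlt, Bool.and_eq_true, List.all_eq_true, Nat.blt_eq, List.mem_range,
    Bool.not_eq_true'] at h0
  obtain ⟨⟨⟨⟨⟨⟨⟨⟨⟨⟨⟨⟨⟨⟨⟨⟨⟨⟨⟨⟨⟨⟨hx1, hx2⟩, hx3⟩, hs1⟩, hs2⟩, hs3⟩, hcj⟩, hdvd⟩, hndvd⟩, hpow⟩, hne⟩,
    hm⟩, hl⟩, -⟩, hpows⟩, hgW⟩, hrels⟩, hL1⟩, hsz1⟩, hlk1⟩, hL2⟩, hsz2⟩, hlk2⟩ := h0
  have hnil : ∀ a ∈ ([] : List ℕ), a < nk := by simp
  set X1 := prodT f A.x1
  set X2 := prodT f A.x2
  set X3 := prodT f A.x3
  have hXlt : ∀ w ∈ [A.x1, A.x2, A.x3], ∀ a ∈ w, a < nk := by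
    intro w hw
    simp only [List.mem_cons, List.not_mem_nil, or_false] at hw
    rcases hw with rfl | rfl | rfl <;> assumption
  have hpow' : X1 ^ A.p = 1 := by
    rw [← prodT_powW]
    exact hk _ _ (powW_lt hx1 _) hnil (Nat.eq_of_beq_eq_true hpow)
  have hne' : X1 ≠ 1 := fun h => by
    rw [hkc A.x1 [] hx1 hnil (h.trans (by simp [prodT])), Nat.beq_refl] at hne
    simp at hne
  have hord : orderOf X1 = A.p := orderOf_eq_prime hpow' hne'
  have hrel1 : X2 * X1 = X1 ^ A.m * X2 := by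
    rw [← prodT_powW, ← prodT_append, ← prodT_append]
    exact hk _ _ (append_lt hx2 hx1) (append_lt (powW_lt hx1 _) hx2) (Nat.eq_of_beq_eq_true hm)
  have hrel2 : X3 * X2 = X2 ^ A.l * X3 := by
    rw [← prodT_powW, ← prodT_append, ← prodT_append]
    exact hk _ _ (append_lt hx3 hx2) (append_lt (powW_lt hx2 _) hx3) (Nat.eq_of_beq_eq_true hl)
  have hclos : Subgroup.closure {X1, X2, X3} = ⊤ := by
    rw [eq_top_iff, ← hgen, Subgroup.closure_le]
    rintro _ ⟨a, ha, rfl⟩
    have e : prodT f (wordX [A.x1, A.x2, A.x3] (A.genW.getD a [])) = f a := by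
      rw [hk _ [a] (wordX_lt hXlt _) (by simpa using ha) (Nat.eq_of_beq_eq_true (hgW a ha))]
      simp [prodT]
    rw [SetLike.mem_coe, ← e, prodT_wordX]
    refine Subgroup.list_prod_mem _ fun x hx => ?_
    obtain ⟨i, -, rfl⟩ := List.mem_map.1 hx
    rcases i with _ | _ | _ | i
    · exact Subgroup.subset_closure (Or.inl rfl)
    · exact Subgroup.subset_closure (Or.inr (Or.inl rfl))
    · exact Subgroup.subset_closure (Or.inr (Or.inr rfl))
    · simp [prodT]
  have hnot : τ ∉ Cfsg.Inn G := by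
    rintro ⟨g, hg⟩
    have hc : ∀ x : G, g * x = τ x * g := fun x => by rw [← hg, MulAut.conj_apply]; group
    obtain ⟨c, hc1, hclt, rfl⟩ := exists_mem_twinsW W hN hkc hL1 (Nat.eq_of_beq_eq_true hsz1)
      hx1 hs1 hlk1 (g := g) (by rw [hc, hτ1])
    have := List.all_eq_true.1 h4 c hc1
    rw [hkc (c ++ A.x2) (A.s2 ++ c) (append_lt hclt hx2) (append_lt hs2 hclt)
        (by rw [prodT_append, prodT_append, hc, hτ2]),
      hkc (c ++ A.x3) (A.s3 ++ c) (append_lt hclt hx3) (append_lt hs3 hclt)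
        (by rw [prodT_append, prodT_append, hc, hτ3]), Nat.beq_refl, Nat.beq_refl] at this
    simp at this
  have key' : ∀ φ : MulAut G, ∃ σ, (σ = 1 ∨ σ = τ) ∧ ∃ g, φ = MulAut.conj g * σ := by
    intro φ
    have hfac : (Nat.card G).factorization A.p = 1 := by
      have h1 : A.p ∣ N := Nat.dvd_of_mod_eq_zero (Nat.eq_of_beq_eq_true hdvd)
      have h2' : ¬ A.p ∣ N / A.p := fun hd => by
        rw [Nat.mod_eq_zero_of_dvd hd] at hndvd
        simp at hndvd
      have h3' : N / A.p ≠ 0 := fun h0 => h2' (h0 ▸ dvd_zero _)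
      rw [hN]
      conv_lhs => rw [← Nat.mul_div_cancel' h1]
      rw [Nat.factorization_mul hp.ne_zero h3', Finsupp.add_apply, hp.factorization_self,
        Nat.factorization_eq_zero_of_not_dvd h2', add_zero]
    let P : Sylow A.p G := Sylow.ofCard (Subgroup.zpowers X1)
      (by rw [Nat.card_zpowers, hord, hfac, pow_one])
    let Q : Sylow A.p G := Sylow.ofCard (Subgroup.zpowers (φ X1))
      (by rw [Nat.card_zpowers, MulEquiv.orderOf_eq, hord, hfac, pow_one])
    obtain ⟨g, hg⟩ := MulAction.exists_smul_eq G Q P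
    have hin : g * φ X1 * g⁻¹ ∈ Subgroup.zpowers X1 := by
      have : g * φ X1 * g⁻¹ ∈ (P : Subgroup G) := by
        rw [← hg]
        exact (Subgroup.mem_smul_pointwise_iff_exists _ _ _).2
          ⟨φ X1, Subgroup.mem_zpowers _, by simp⟩
      exact this
    obtain ⟨k', hk'⟩ := Submonoid.mem_powers_iff _ _ |>.1 (mem_powers_iff_mem_zpowers.2 hin)
    rw [← pow_mod_orderOf, hord] at hk'
    set k := k' % A.p
    have hklt : k < A.p := Nat.mod_lt _ hp.pos
    have hk0 : k ≠ 0 := fun h0 => by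
      rw [h0, pow_zero] at hk'
      exact hne' (φ.injective (by rw [map_one]; simpa using hk'.symm))
    set ψ1 : MulAut G := MulAut.conj g * φ with hψ1
    have hψ1x : ψ1 X1 = X1 ^ k := by rw [hψ1, MulAut.mul_apply, MulAut.conj_apply, ← hk']
    have hy0 : MulAut.conj (ψ1 X2) (X1 ^ k) = (X1 ^ k) ^ A.m := by
      rw [MulAut.conj_apply, mul_inv_eq_iff_eq_mul, ← hψ1x, ← map_pow, ← map_mul, ← map_mul, hrel1]
    obtain ⟨j, -, hj⟩ := Nat.exists_mul_mod_eq_one_of_coprime
      (hp.coprime_iff_not_dvd.2 fun hd => hk0 (Nat.eq_zero_of_dvd_of_lt hd hklt)).symm hp.one_lt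
    have hx0 : (X1 ^ k) ^ j = X1 := by
      rw [← pow_mul, ← pow_mod_orderOf, hord, hj, pow_one]
    have hy1 : ψ1 X2 * X1 = prodT f (powW A.x1 A.m) * ψ1 X2 := by
      have h' := congrArg (fun v => v ^ j) hy0
      simp only [← map_pow] at h'
      rw [hx0, ← pow_mul, Nat.mul_comm A.m, pow_mul, hx0, MulAut.conj_apply,
        mul_inv_eq_iff_eq_mul] at h'
      rw [prodT_powW]
      exact h'
    obtain ⟨y, hy, hylt, hye⟩ := exists_mem_twinsW W hN hkc hL1 (Nat.eq_of_beq_eq_true hsz1)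
      hx1 (powW_lt hx1 _) hlk1 hy1
    have horb := List.all_eq_true.1 h2 y hy
    simp only [inOrbitW, List.any_eq_true, List.mem_range] at horb
    obtain ⟨i, -, hi⟩ := horb
    have hi : X1 ^ i * ψ1 X2 = X2 * X1 ^ i := by
      rw [← prodT_powW, ← hye, ← prodT_append, ← prodT_append]
      exact hk _ _ (append_lt (powW_lt hx1 _) hylt) (append_lt hx2 (powW_lt hx1 _))
        (Nat.eq_of_beq_eq_true hi)
    set ψ2 : MulAut G := MulAut.conj (X1 ^ i) * ψ1 with hψ2
    have hψ2x : ψ2 X1 = X1 ^ k := by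
      rw [hψ2, MulAut.mul_apply, hψ1x, MulAut.conj_apply, ← pow_add, Nat.add_comm, pow_add,
        mul_inv_cancel_right]
    have hψ2y : ψ2 X2 = X2 := by
      rw [hψ2, MulAut.mul_apply, MulAut.conj_apply, hi, mul_inv_cancel_right]
    have hz1 : ψ2 X3 * X2 = prodT f (powW A.x2 A.l) * ψ2 X3 := by
      rw [prodT_powW]
      conv_lhs => rw [← hψ2y, ← map_mul, hrel2, map_mul, map_pow, hψ2y]
    obtain ⟨z, hz, hzlt, hze⟩ := exists_mem_twinsW W hN hkc hL2 (Nat.eq_of_beq_eq_true hsz2)
      hx2 (powW_lt hx2 _) hlk2 hz1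
    have hz' : z ∈ A.Z := wordsEq_eq hZ ▸ hz
    have htr := List.all_eq_true.1 (h3 k (Nat.pos_of_ne_zero hk0) hklt) z hz'
    obtain ⟨hPlt, hPkey⟩ := hpows k hklt
    have hPval : prodT f (A.pows.getD k []) = X1 ^ k :=
      (hk _ _ hPlt (powW_lt hx1 _) (Nat.eq_of_beq_eq_true hPkey)).trans (prodT_powW _ _)
    simp only [tripleOK, Bool.or_eq_true, List.any_eq_true, Bool.and_eq_true,
      Bool.not_eq_true'] at htr
    have himgs : ∀ i, ψ2 (prodT f ([A.x1, A.x2, A.x3].getD i [])) =
        prodT f ([A.pows.getD k [], A.x2, z].getD i []) := by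
      intro i
      rcases i with _ | _ | _ | i
      · exact hψ2x.trans hPval.symm
      · exact hψ2y
      · exact hze.symm
      · simp [prodT]
    rcases htr with ⟨r, hr, hrf⟩ | ⟨⟨c, b⟩, hq, ⟨hq1, hq2⟩, hq3⟩
    · have e1 : prodT f (wordX [A.x1, A.x2, A.x3] r) = 1 :=
        (hk _ [] (wordX_lt hXlt _) hnil (Nat.eq_of_beq_eq_true (hrels r hr))).trans (by simp [prodT])
      have e2 := prodT_triple (ψ2 : G →* G) _ _ himgs r
      rw [e1, map_one] at e2
      have hlt' : ∀ w ∈ [A.pows.getD k [], A.x2, z], ∀ a ∈ w, a < nk := by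
        intro w hw
        simp only [List.mem_cons, List.not_mem_nil, or_false] at hw
        rcases hw with rfl | rfl | rfl
        · exact hPlt
        · exact hx2
        · exact hzlt
      rw [hkc _ [] (wordX_lt hlt' r) hnil (e2.symm.trans (by simp [prodT])), Nat.beq_refl] at hrf
      simp at hrf
    · have hclt := hcj _ hq
      obtain ⟨σ, hσ, hσ1, hσ2, hσ3⟩ : ∃ σ : MulAut G, (σ = 1 ∨ σ = τ) ∧
          σ X1 = prodT f (bif b then A.s1 else A.x1) ∧ σ X2 = prodT f (bif b then A.s2 else A.x2) ∧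
          σ X3 = prodT f (bif b then A.s3 else A.x3) := by
        cases b with
        | true => exact ⟨τ, Or.inr rfl, hτ1, hτ2, hτ3⟩
        | false => exact ⟨1, Or.inl rfl, rfl, rfl, rfl⟩
      have hblt : ∀ u v : List ℕ, (∀ a ∈ u, a < nk) → (∀ a ∈ v, a < nk) →
          ∀ a ∈ (bif b then u else v), a < nk := by
        intro u v hu hv
        cases b <;> assumption
      have conj_eq : ∀ (x : G) (s t : List ℕ), σ x = prodT f s → prodT f (c ++ s) = prodT f (t ++ c) →
          prodT f t = (MulAut.conj (prodT f c) * σ) x := by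
        intro x s t h1 h2
        rw [prodT_append, prodT_append] at h2
        rw [MulAut.mul_apply, MulAut.conj_apply, h1, h2, mul_inv_cancel_right]
      have hall : ψ2 = MulAut.conj (prodT f c) * σ := by
        apply MulEquiv.toMonoidHom_injective
        refine MonoidHom.eq_of_eqOn_dense hclos ?_
        rintro x (rfl | rfl | rfl)
        · exact (himgs 0).trans (conj_eq _ _ _ hσ1 (hk _ _ (append_lt hclt (hblt _ _ hs1 hx1))
            (append_lt hPlt hclt) (Nat.eq_of_beq_eq_true hq1)))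
        · exact (himgs 1).trans (conj_eq _ _ _ hσ2 (hk _ _ (append_lt hclt (hblt _ _ hs2 hx2))
            (append_lt hx2 hclt) (Nat.eq_of_beq_eq_true hq2)))
        · exact (himgs 2).trans (conj_eq _ _ _ hσ3 (hk _ _ (append_lt hclt (hblt _ _ hs3 hx3))
            (append_lt hzlt hclt) (Nat.eq_of_beq_eq_true hq3)))
      refine ⟨σ, hσ, (X1 ^ i * g)⁻¹ * prodT f c, ?_⟩
      rw [map_mul, mul_assoc, ← hall, hψ2, hψ1, map_inv, map_mul, mul_inv_rev]
      group
  rw [Nat.card_eq_two_iff]
  refine ⟨(1 : Cfsg.Out G), QuotientGroup.mk τ, fun he => hnot ?_, ?_⟩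
  · exact (QuotientGroup.eq_one_iff _).1 he.symm
  · refine Set.eq_univ_iff_forall.2 fun a => ?_
    obtain ⟨φ, rfl⟩ := QuotientGroup.mk_surjective a
    obtain ⟨σ, hσ, g, rfl⟩ := key' φ
    have hg : (QuotientGroup.mk (MulAut.conj g) : Cfsg.Out G) = 1 :=
      (QuotientGroup.eq_one_iff _).2 ⟨g, rfl⟩
    rcases hσ with rfl | rfl
    · left
      rw [mul_one, hg]
    · right
      rw [QuotientGroup.mk_mul, hg, one_mul]
      rfl

end Sound

end Cfsg.Agent.Lib.Compute.WordAut
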