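import Cfsg.Agent.Lib.Compute.WordSchur

/-!
# Cyclic multipliers from word certificates and a cover
-/

set_option autoImplicit false

namespace Cfsg.Agent.Lib.Compute.WordSchur

open Cfsg.Agent.Lib.Compute.Schur (prodT)

universe u

variable {G : Type u} [Group G] [Finite G] {f : ℕ → G} {nk : ℕ} {key : List ℕ → ℕ}

/-- Order of the kernel of a stem extension from word certificates. -/
theorem card_ker_dvd (hk : KeySound f nk key)
    (hkc : ∀ u v, (∀ a ∈ u, a < nk) → (∀ a ∈ v, a < nk) → prodT f u = prodT f v → key u = key v)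
    {N : ℕ} (hN : Nat.card G = N) (Ws : List WCert)
    (hW : ∀ W ∈ Ws, W.A.R.p.Prime ∧ checkW key nk N W = true) {n : ℕ} (hn : 0 < n)
    (hr : ∀ W ∈ Ws, W.A.r ∣ n)
    (hrest : ∀ p : ℕ, p.Prime → p ^ 2 ∣ N → ∃ A ∈ Ws.map WCert.A, A.R.p = p)
    {Γ : Type*} [Group Γ] [Finite Γ] {σ : Γ →* G} (hσ : Cfsg.IsStemExtension σ) :
    Nat.card σ.ker ∣ n := by
  rw [Nat.dvd_iff_prime_pow_dvd_dvd]
  intro p k hp hd
  haveI := Fact.mk hp
  by_cases h2 : p ^ 2 ∣ N
  · obtain ⟨_, hA, rfl⟩ := hrest p hp h2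
    obtain ⟨W, hWs, rfl⟩ := List.mem_map.1 hA
    obtain ⟨-, hc⟩ := hW W hWs
    simp only [checkW, Bool.and_eq_true] at hc
    obtain ⟨a, har, hmem⟩ :=
      exists_generator hk hkc hN hp hc.1.1.1 hc.1.1.2 hc.1.2 hc.2 σ hσ.1 hσ.2.1
    obtain ⟨P, hP⟩ := Sylow.exists_subgroup_card_pow_prime W.A.R.p hd
    have hle : P.map σ.ker.subtype ≤ Subgroup.zpowers a := by
      rintro _ ⟨x, hx, rfl⟩
      refine hmem x.1 ⟨x.2, hσ.2.2 x.2⟩ k ?_
      have := orderOf_dvd_natCard (⟨x, hx⟩ : P)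
      rw [hP, ← Subgroup.orderOf_coe, ← Subgroup.orderOf_coe] at this
      exact orderOf_dvd_iff_pow_eq_one.1 this
    have h1 := Subgroup.card_dvd_of_le hle
    rw [Subgroup.card_map_of_injective σ.ker.subtype_injective, hP, Nat.card_zpowers] at h1
    exact (h1.trans (orderOf_dvd_of_pow_eq_one har)).trans (hr W hWs)
  · rcases Nat.eq_zero_or_pos k with rfl | hk0
    · simp
    · obtain ⟨P⟩ : Nonempty (Sylow p G) := inferInstance
      obtain ⟨m, hm⟩ := IsPGroup.iff_card.1 P.isPGroup'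
      have hm1 : m ≤ 1 := by
        by_contra hc
        refine h2 ((pow_dvd_pow p (show 2 ≤ m by omega)).trans ?_)
        rw [← hm, ← hN]
        exact Subgroup.card_subgroup_dvd_card _
      haveI : IsCyclic P := by
        interval_cases m
        · haveI : Subsingleton P := (Nat.card_eq_one_iff_unique.1 (by simpa using hm)).1
          infer_instance
        · exact isCyclic_of_prime_card (p := p) (by simpa using hm)
      exact absurd ((dvd_pow_self p hk0.ne').trans hd)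
        (Cfsg.Agent.Lib.Schur.not_dvd_card_ker_of_isCyclic hσ P)

/-- Cyclic multiplier of order `n` from word certificates and a stem extension with that kernel. -/
theorem hasCyclicSchurMultiplier_of_cover (hk : KeySound f nk key)
    (hkc : ∀ u v, (∀ a ∈ u, a < nk) → (∀ a ∈ v, a < nk) → prodT f u = prodT f v → key u = key v)
    {N : ℕ} (hN : Nat.card G = N) (Ws : List WCert)
    (hW : ∀ W ∈ Ws, W.A.R.p.Prime ∧ checkW key nk N W = true) {n : ℕ} [NeZero n]
    (hr : ∀ W ∈ Ws, W.A.r ∣ n)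
    (hrest : ∀ p : ℕ, p.Prime → p ^ 2 ∣ N → ∃ A ∈ Ws.map WCert.A, A.R.p = p)
    {X : Type*} [Group X] [Finite X] (τ : X →* G) (hτ : Cfsg.IsStemExtension τ)
    [IsCyclic τ.ker] (hcard : Nat.card τ.ker = n) :
    Cfsg.HasCyclicSchurMultiplier G n := by
  obtain ⟨A₀, _, _, hA₀⟩ := Cfsg.Agent.Lib.Schur.exists_hasSchurMultiplier G
  have hcardA : Nat.card A₀ ∣ n := by
    obtain ⟨Γ, _, _, σ, hσ, ⟨e⟩⟩ := hA₀.1
    rw [← Nat.card_congr e.toEquiv]
    exact card_ker_dvd hk hkc hN Ws hW (NeZero.pos n) hr hrest hσ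
  have hker : τ.ker ⊓ commutator X = τ.ker := inf_eq_left.2 hτ.2.2
  let e : τ.ker ≃* Multiplicative (ZMod n) :=
    mulEquivOfCyclicCardEq (by rw [hcard]; simp)
  refine Cfsg.Agent.Lib.Schur.hasSchurMultiplier_of_bound τ hτ.1 hτ.2.1
    ((MulEquiv.subgroupCongr hker).trans e).toMonoidHom (MulEquiv.surjective _) fun Y _ τ' h1 h2 => ?_
  obtain ⟨g, hg⟩ := Cfsg.Agent.Lib.Schur.exists_surjection_of_hasSchurMultiplier hA₀ τ' h1 h2
  refine (Nat.card_le_card_of_surjective g hg).trans ?_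
  simpa using Nat.le_of_dvd (NeZero.pos n) hcardA

end Cfsg.Agent.Lib.Compute.WordSchur
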