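import Cfsg.Agent.Lib.Compute.WordSchur

/-!
# Twins in groups given by words

Levels of transversals given by words whose sizes multiply to the group order describe every element.
Along a base that follows the cycles of `y` this lists all `g` with `g * y = y' * g`.
-/

set_option autoImplicit false

namespace Cfsg.Agent.Lib.Compute.WordTwins

open Cfsg.Agent.Lib.Compute.Schur (prodT prodT_append)
open Cfsg.Agent.Lib.Compute.WordSchur (KeySound)

/-- Search trees from points to words. -/
inductive WTree where
  | leaf : WTree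
  | node : WTree → ℕ → List ℕ → WTree → WTree

/-- Lookup. -/
noncomputable def WTree.find (t : WTree) (y : ℕ) : Option (List ℕ) :=
  WTree.rec (motive := fun _ => Option (List ℕ)) none
    (fun _ x w _ fl fr =>
      Bool.rec (motive := fun _ => Option (List ℕ))
        (Bool.rec (motive := fun _ => Option (List ℕ)) fr fl (Nat.blt y x)) (some w) (Nat.beq y x)) t

/-- All entries, in order. -/
def WTree.toList : WTree → List (ℕ × List ℕ)
  | .leaf => []
  | .node l x w r => l.toList ++ (x, w) :: r.toList

/-- A level: base point, optionally the earlier base point it comes from, and the transversal. -/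
structure WLev where
  b : ℕ
  src : Option ℕ
  tree : WTree

/-- Strictly increasing. -/
def incr : List ℕ → Bool
  | [] => true
  | [_] => true
  | a :: b :: l => Nat.blt a b && incr (b :: l)

/-- Check of the levels below the fixed points `bs`. -/
noncomputable def levelsOK (img : List ℕ → ℕ → ℕ) (nk n : ℕ) : List WLev → List ℕ → Bool
  | [], _ => true
  | l :: L, bs =>
    Nat.blt l.b n && incr (l.tree.toList.map Prod.fst) &&
    (l.tree.toList.all fun q =>
      (q.2.all fun a => Nat.blt a nk) && Nat.beq (img q.2 l.b) q.1 &&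
      (match l.tree.find q.1 with
        | none => false
        | some w => Schur.natListEq w q.2) &&
      bs.all fun c => Nat.beq (img q.2 c) c) &&
    levelsOK img nk n L (l.b :: bs)

/-- Product of the sizes. -/
noncomputable def levelsSize : List WLev → ℕ
  | [] => 1
  | l :: L => l.tree.toList.length * levelsSize L

/-- Image recorded for a base point. -/
def lookupPt : List (ℕ × ℕ) → ℕ → Option ℕ
  | [], _ => none
  | (b, i) :: r, c => bif Nat.beq b c then some i else lookupPt r c

/-- Every link follows the permutation of the word `y`. -/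
noncomputable def linksOK (img : List ℕ → ℕ → ℕ) (y : List ℕ) (L : List WLev) : Bool :=
  L.all fun l => match l.src with
    | none => true
    | some s => Nat.beq (img y s) l.b

/-- Candidates extending the prefix `P` with recorded images. -/
noncomputable def searchW (img : List ℕ → ℕ → ℕ) (y' : List ℕ) :
    List WLev → List ℕ → List (ℕ × ℕ) → List (List ℕ)
  | [], P, _ => [P]
  | l :: L, P, im =>
    match l.src with
    | none => l.tree.toList.flatMap fun q => searchW img y' L (P ++ q.2) ((l.b, img P q.1) :: im)
    | some s =>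
      match lookupPt im s with
      | none => l.tree.toList.flatMap fun q => searchW img y' L (P ++ q.2) ((l.b, img P q.1) :: im)
      | some i =>
        forceNat (img y' i) fun want =>
          forceNat (img P.reverse want) fun x =>
            match l.tree.find x with
            | none => []
            | some w => searchW img y' L (P ++ w) ((l.b, want) :: im)

/-- The words with `g * y = y' * g`. -/
noncomputable def twinsW (img : List ℕ → ℕ → ℕ) (key : List ℕ → ℕ) (L : List WLev) (y y' : List ℕ) :
    List (List ℕ) :=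
  (searchW img y' L [] []).filter fun g => Nat.beq (key (g ++ y)) (key (y' ++ g))

/-- An action on numbers computed by `img`. -/
structure WAct (G : Type*) [Group G] (f : ℕ → G) (nk n : ℕ) (img : List ℕ → ℕ → ℕ) where
  act : G → ℕ → ℕ
  act_one : ∀ b, b < n → act 1 b = b
  act_mul : ∀ g h b, b < n → act (g * h) b = act g (act h b)
  act_lt : ∀ g b, b < n → act g b < n
  img_eq : ∀ u : List ℕ, (∀ a ∈ u, a < nk) → ∀ b, b < n → img u b = act (prodT f u) b
  invol : ∀ a, a < nk → f a * f a = 1

section Sound

variable {G : Type*} [Group G] {f : ℕ → G} {nk n : ℕ} {img : List ℕ → ℕ → ℕ}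

theorem prodT_reverse_mul (hinv : ∀ a, a < nk → f a * f a = 1) : ∀ u : List ℕ,
    (∀ a ∈ u, a < nk) → prodT f u.reverse * prodT f u = 1
  | [], _ => by simp [prodT]
  | a :: u, h => by
    rw [List.reverse_cons, prodT_append, show prodT f [a] = f a by simp [prodT],
      Schur.prodT_cons, mul_assoc, ← mul_assoc (f a), hinv a (h a (by simp)), one_mul,
      prodT_reverse_mul hinv u fun b hb => h b (List.mem_cons_of_mem _ hb)]

open Classical in
/-- All products of one representative from each level. -/
noncomputable def prodSet (f : ℕ → G) : List WLev → Finset G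
  | [] => {1}
  | l :: L => Finset.image₂ (fun (q : ℕ × List ℕ) h => prodT f q.2 * h) l.tree.toList.toFinset
      (prodSet f L)

theorem incr_lt : ∀ {l : List ℕ}, incr l = true → l.Pairwise (· < ·)
  | [], _ => List.Pairwise.nil
  | [_], _ => List.pairwise_singleton _ _
  | a :: b :: l, h => by
    simp only [incr, Bool.and_eq_true, Nat.blt_eq] at h
    have ih := incr_lt h.2
    refine List.Pairwise.cons ?_ ih
    intro c hc
    rcases List.mem_cons.1 hc with rfl | hc
    · exact h.1
    · exact h.1.trans ((List.pairwise_cons.1 ih).1 c hc)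

theorem levelsOK_cons {l : WLev} {L : List WLev} {bs : List ℕ}
    (h : levelsOK img nk n (l :: L) bs = true) :
    l.b < n ∧ (l.tree.toList.map Prod.fst).Nodup ∧
    (∀ q ∈ l.tree.toList, (∀ a ∈ q.2, a < nk) ∧ img q.2 l.b = q.1 ∧
      l.tree.find q.1 = some q.2 ∧ ∀ c ∈ bs, img q.2 c = c) ∧
    levelsOK img nk n L (l.b :: bs) = true := by
  simp only [levelsOK, Bool.and_eq_true, List.all_eq_true, Nat.blt_eq] at h
  obtain ⟨⟨⟨hb, hinc⟩, hq⟩, hrec⟩ := h
  refine ⟨hb, (incr_lt hinc).imp fun h => ne_of_lt h, fun q hql => ?_, hrec⟩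
  obtain ⟨⟨⟨h1, h2⟩, h3⟩, h4⟩ := hq q hql
  refine ⟨h1, Nat.eq_of_beq_eq_true h2, ?_, fun c hc => Nat.eq_of_beq_eq_true (h4 c hc)⟩
  cases hf : l.tree.find q.1 with
  | none => rw [hf] at h3; simp at h3
  | some w => rw [hf] at h3; rw [Schur.natListEq_eq h3]

variable (W : WAct G f nk n img)

include W in
open Classical in
theorem prodSet_spec : ∀ (L : List WLev) (bs : List ℕ), (∀ c ∈ bs, c < n) →
    levelsOK img nk n L bs = true →
    (prodSet f L).card = levelsSize L ∧ ∀ g ∈ prodSet f L, ∀ c ∈ bs, W.act g c = c
  | [], bs, hbs, _ => by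
    refine ⟨by simp [prodSet, levelsSize], fun g hg c hc => ?_⟩
    simp only [prodSet, Finset.mem_singleton] at hg
    rw [hg, W.act_one c (hbs c hc)]
  | l :: L, bs, hbs, h => by
    obtain ⟨hb, hnd, hq, hrec⟩ := levelsOK_cons h
    have hbs' : ∀ c ∈ l.b :: bs, c < n := by
      intro c hc
      rcases List.mem_cons.1 hc with rfl | hc
      · exact hb
      · exact hbs c hc
    obtain ⟨hcard, hfix⟩ := prodSet_spec L (l.b :: bs) hbs' hrec
    have hpt : ∀ q ∈ l.tree.toList, ∀ g ∈ prodSet f L, W.act (prodT f q.2 * g) l.b = q.1 := by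
      intro q hql g hg
      rw [W.act_mul _ _ _ hb, hfix g hg l.b (by simp), ← W.img_eq _ (hq q hql).1 _ hb,
        (hq q hql).2.1]
    refine ⟨?_, ?_⟩
    · rw [prodSet, Finset.card_image₂_iff.2, List.toFinset_card_of_nodup hnd.of_map, hcard,
        levelsSize]
      rintro ⟨q, g⟩ ⟨hq1, hg⟩ ⟨q', g'⟩ ⟨hq1', hg'⟩ e
      simp only [Finset.mem_coe, List.mem_toFinset] at hq1 hq1' hg hg'
      dsimp only at e
      have e1 := hpt q hq1 g hg
      rw [e, hpt q' hq1' g' hg'] at e1
      have : q = q' := List.inj_on_of_nodup_map hnd hq1 hq1' e1.symm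
      subst this
      rw [mul_left_cancel e]
    · intro g hg c hc
      simp only [prodSet, Finset.mem_image₂, List.mem_toFinset] at hg
      obtain ⟨q, hql, g', hg', rfl⟩ := hg
      rw [W.act_mul _ _ _ (hbs c hc), hfix g' hg' c (List.mem_cons_of_mem _ hc),
        ← W.img_eq _ (hq q hql).1 _ (hbs c hc), (hq q hql).2.2.2 c hc]

theorem lookupPt_mem : ∀ {im : List (ℕ × ℕ)} {c i : ℕ}, lookupPt im c = some i → (c, i) ∈ im
  | [], _, _, h => by simp [lookupPt] at h
  | (b, j) :: r, c, i, h => by
    simp only [lookupPt] at h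
    cases hb : Nat.beq b c with
    | true =>
      rw [hb, cond_true, Option.some.injEq] at h
      rw [← Nat.eq_of_beq_eq_true hb, ← h]
      simp
    | false =>
      rw [hb, cond_false] at h
      exact List.mem_cons_of_mem _ (lookupPt_mem h)

include W in
open Classical in
theorem searchW_spec {y y' : List ℕ} (hy : ∀ a ∈ y, a < nk) (hy' : ∀ a ∈ y', a < nk) :
    ∀ (L : List WLev) (bs : List ℕ), (∀ c ∈ bs, c < n) → levelsOK img nk n L bs = true →
    linksOK img y L = true →
    ∀ (P : List ℕ), (∀ a ∈ P, a < nk) → ∀ im : List (ℕ × ℕ),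
    (∀ q ∈ im, q.1 ∈ bs ∧ q.2 = W.act (prodT f P) q.1) →
    ∀ g ∈ prodSet f L, prodT f P * g * prodT f y = prodT f y' * (prodT f P * g) →
    ∃ u ∈ searchW img y' L P im, (∀ a ∈ u, a < nk) ∧ prodT f u = prodT f P * g
  | [], bs, _, _, _, P, hP, im, _, g, hg, _ => by
    simp only [prodSet, Finset.mem_singleton] at hg
    exact ⟨P, by simp [searchW], hP, by simp [hg]⟩
  | l :: L, bs, hbs, h, hlk, P, hP, im, him, g, hg, hcomm => by
    obtain ⟨hb, hnd, hq, hrec⟩ := levelsOK_cons h
    have hbs' : ∀ c ∈ l.b :: bs, c < n := by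
      intro c hc
      rcases List.mem_cons.1 hc with rfl | hc
      · exact hb
      · exact hbs c hc
    simp only [linksOK, List.all_cons, Bool.and_eq_true] at hlk
    obtain ⟨hlk1, hlk2⟩ := hlk
    simp only [prodSet, Finset.mem_image₂, List.mem_toFinset] at hg
    obtain ⟨q, hql, h', hh', rfl⟩ := hg
    have hfix := (prodSet_spec W L (l.b :: bs) hbs' hrec).2 h' hh'
    have hPq : ∀ a ∈ P ++ q.2, a < nk := fun a ha => by
      rcases List.mem_append.1 ha with ha | ha
      · exact hP a ha
      · exact (hq q hql).1 a ha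
    have hx : q.1 < n := by
      rw [← (hq q hql).2.1, W.img_eq _ (hq q hql).1 _ hb]
      exact W.act_lt _ _ hb
    have himg : W.act (prodT f (P ++ q.2)) l.b = img P q.1 := by
      rw [prodT_append, W.act_mul _ _ _ hb, ← W.img_eq _ (hq q hql).1 _ hb, (hq q hql).2.1,
        W.img_eq _ hP _ hx]
    have hIm : ∀ r ∈ im, W.act (prodT f (P ++ q.2)) r.1 = r.2 := by
      intro r hr
      obtain ⟨r1, r2⟩ := him r hr
      rw [prodT_append, W.act_mul _ _ _ (hbs _ r1), ← W.img_eq _ (hq q hql).1 _ (hbs _ r1),
        (hq q hql).2.2.2 _ r1, r2]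
    have step := searchW_spec hy hy' L (l.b :: bs) hbs' hrec hlk2 (P ++ q.2) hPq
      ((l.b, img P q.1) :: im) (fun r hr => by
        rcases List.mem_cons.1 hr with rfl | hr
        · exact ⟨by simp, himg.symm⟩
        · exact ⟨List.mem_cons_of_mem _ (him r hr).1, (hIm r hr).symm⟩) h' hh'
      (by rw [prodT_append, mul_assoc (prodT f P) (prodT f q.2)]; exact hcomm)
    obtain ⟨u, hu, hlt, he⟩ := step
    refine ⟨u, ?_, hlt, by rw [he, prodT_append, mul_assoc]⟩
    have hfree : u ∈ l.tree.toList.flatMap
        fun q => searchW img y' L (P ++ q.2) ((l.b, img P q.1) :: im) :=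
      List.mem_flatMap.2 ⟨q, hql, hu⟩
    simp only [searchW]
    cases hs : l.src with
    | none => exact hfree
    | some s =>
      rw [hs] at hlk1
      cases hl : lookupPt im s with
      | none => simpa [hl] using hfree
      | some i =>
        simp only [forceNat_eq, hl]
        obtain ⟨hsb, hi⟩ := him _ (lookupPt_mem hl)
        simp only at hsb hi hlk1
        have hsn : s < n := hbs s hsb
        have hin : i < n := by rw [hi]; exact W.act_lt _ _ hsn
        have key : img y' i = img P q.1 := by
          have e := congrArg (fun a => W.act a s) hcomm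
          rw [W.act_mul _ _ _ hsn, ← W.img_eq _ hy _ hsn, Nat.eq_of_beq_eq_true hlk1,
            W.act_mul _ _ _ hsn, ← mul_assoc, ← prodT_append, W.act_mul _ _ _ hb,
            hfix l.b (by simp), himg, W.act_mul _ _ _ hsn, hfix s (List.mem_cons_of_mem _ hsb),
            show W.act (prodT f (P ++ q.2)) s = i from hIm _ (lookupPt_mem hl), ← W.img_eq _ hy' _ hin] at e
          exact e.symm
        have hxx : img P.reverse (img P q.1) = q.1 := by
          rw [W.img_eq _ hP _ hx, W.img_eq _ (fun a ha => hP a (List.mem_reverse.1 ha)) _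
            (W.act_lt _ _ hx), ← W.act_mul _ _ _ hx, prodT_reverse_mul W.invol P hP,
            W.act_one _ hx]
        rw [key, hxx, (hq q hql).2.2.1]
        exact hu

include W in
open Classical in
/-- The twin list is complete. -/
theorem exists_mem_twinsW [Finite G] {N : ℕ} (hN : Nat.card G = N) {key : List ℕ → ℕ}
    (hkc : ∀ u v, (∀ a ∈ u, a < nk) → (∀ a ∈ v, a < nk) → prodT f u = prodT f v → key u = key v)
    {L : List WLev} (hL : levelsOK img nk n L [] = true) (hsz : levelsSize L = N)
    {y y' : List ℕ} (hy : ∀ a ∈ y, a < nk) (hy' : ∀ a ∈ y', a < nk)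
    (hlk : linksOK img y L = true) {g : G} (hg : g * prodT f y = prodT f y' * g) :
    ∃ u ∈ twinsW img key L y y', (∀ a ∈ u, a < nk) ∧ prodT f u = g := by
  haveI := Fintype.ofFinite G
  have huniv : prodSet f L = Finset.univ := by
    refine Finset.eq_univ_of_card _ ?_
    rw [(prodSet_spec W L [] (by simp) hL).1, hsz, ← hN, Nat.card_eq_fintype_card]
  obtain ⟨u, hu, hlt, he⟩ := searchW_spec W hy hy' L [] (by simp) hL hlk [] (by simp) []
    (by simp) g (by rw [huniv]; exact Finset.mem_univ _) (by simpa [prodT] using hg)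
  have he : prodT f u = g := by simpa [prodT] using he
  refine ⟨u, List.mem_filter.2 ⟨hu, ?_⟩, hlt, he⟩
  rw [hkc (u ++ y) (y' ++ u)
    (fun a ha => by
      rcases List.mem_append.1 ha with ha | ha
      · exact hlt a ha
      · exact hy a ha)
    (fun a ha => by
      rcases List.mem_append.1 ha with ha | ha
      · exact hy' a ha
      · exact hlt a ha)
    (by rw [prodT_append, prodT_append, he]; exact hg)]
  exact Nat.beq_refl _

end Sound

end Cfsg.Agent.Lib.Compute.WordTwins
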